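import Cfsg.Agent.Lib.SecondMain.Rank
import Cfsg.Agent.Lib.BrauerPairs.Integral
import Cfsg.Agent.Lib.BrauerPairs.PrincipalFusion
import Cfsg.Agent.Lib.BrauerPairs.PNilpotent
import Cfsg.Agent.Lib.Blocks.KleinDefect
import Cfsg.Agent.Lib.BrauerPairs.Correspondence
import Cfsg.Agent.Lib.Star.Twist
import Cfsg.Agent.Lib.Blocks.CoverDefect
import Cfsg.Agent.Lib.PLocal.ActionStable
import Cfsg.Agent.Lib.Solvable.Fitting
import Cfsg.Agent.S4642
import Mathlib.GroupTheory.FixedPointFree

/-!
# Blocks with one more character than their rank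

* `conj_of_defect`: the non-identity elements of a defect group are conjugate, and the blocks at
  them that induce the block have rank one;
* `elementary_principal`: for the principal block the defect group is elementary abelian;
* `elementary_of_pSolvable`: so it is for all blocks of `p`-solvable groups.
-/

set_option autoImplicit false
set_option linter.unusedSectionVars false
set_option maxHeartbeats 1000000
set_option synthInstance.maxHeartbeats 200000

namespace Cfsg.Agent.KMinusL

open Cfsg Cfsg.Agent.Blocks Cfsg.Agent.BrauerPairs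

universe u

variable {G : Type u} [Group G] [Finite G] {p : ℕ} [Fact p.Prime] {M : Ideal AlgInt}

theorem centralizer_zpowers (u : G) :
    Subgroup.centralizer (Subgroup.zpowers u : Set G) = Subgroup.centralizer ({u} : Set G) := by
  ext g
  rw [SecondMain.mem_centralizer_zpowers_iff, Subgroup.mem_centralizer_singleton_iff]
  exact eq_comm

/-- At an element of a defect group some block of the centraliser induces the block. -/
theorem exists_induced (hM : IsPModular p M) {B : Set (IrrCharacter G)} (hB : IsPBlock M B)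
    {D : Subgroup G} (hD : IsDefectGroup p M B D) {u : G} (hu : u ∈ D) :
    ∃ b, IsInducedBlock M (Subgroup.centralizer ({u} : Set G)) b B := by
  classical
  have := Fintype.ofFinite G
  obtain ⟨e, he⟩ := exists_pair_of_defectGroup hM hB hD
  have hmax := isMaximal_of_isDefectGroup hM he hD
  obtain ⟨f, -, hle⟩ := exists_subpair hM hmax.1.1 (Q := Subgroup.zpowers u) (Subgroup.zpowers_le.2 hu)
  have hord : ∃ k, orderOf u = p ^ k := Star.exists_order_pow hmax.1.1.1 ⟨u, hu⟩
  have h := SecondMain.induced_of_brauerPair hM hord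
    ((isBrauerPairOf_iff_of_le hM hB hle).1 hmax.1)
  rw [← centralizer_zpowers]
  exact ⟨f, h⟩

/-- With `k(B) ≤ l(B) + 1` there is one class of non-trivial subsections, of rank one. -/
theorem conj_of_defect (hM : IsPModular p M) {B : Set (IrrCharacter G)} (hB : IsPBlock M B)
    {D : Subgroup G} (hD : IsDefectGroup p M B D) (hk : Nat.card B ≤ blockRank p B + 1)
    {u : G} (hu : u ∈ D) (hu1 : u ≠ 1) :
    (∀ v ∈ D, v ≠ 1 → IsConj u v) ∧
      ∀ b, IsInducedBlock M (Subgroup.centralizer ({u} : Set G)) b B → blockRank p b = 1 := by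
  classical
  have := Fintype.ofFinite G
  have := Fintype.ofFinite (ConjClasses G)
  have hDp := isPGroup_defectGroup hM hD
  have hord : ∀ v ∈ D, ∃ k, orderOf v = p ^ k := fun v hv => Star.exists_order_pow hDp ⟨v, hv⟩
  have main : ∀ v ∈ D, v ≠ 1 → IsConj u v ∧
      ∀ b, IsInducedBlock M (Subgroup.centralizer ({u} : Set G)) b B → blockRank p b = 1 := by
    intro v hv hv1
    -- representatives containing `1`, `u` and, if it is not conjugate to `u`, `v`
    let r : ConjClasses G → G := fun c => if c = ConjClasses.mk 1 then 1 else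
      if c = ConjClasses.mk u then u else if c = ConjClasses.mk v then v else Quotient.out c
    have hr : ∀ c, ConjClasses.mk (r c) = c := fun c => by
      simp only [r]
      split_ifs with h1 h2 h3
      · exact h1.symm
      · exact h2.symm
      · exact h3.symm
      · exact Quotient.out_eq c
    let X : Finset G := (Finset.univ.filter fun g : G => ∃ k : ℕ, orderOf g = p ^ k).image
      fun g => r (ConjClasses.mk g)
    have hpc : ∀ {g x : G}, IsConj g x → (∃ k, orderOf g = p ^ k) → ∃ k, orderOf x = p ^ k := by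
      intro g x h ⟨k, hk⟩
      obtain ⟨c, rfl⟩ := isConj_iff.1 h
      exact ⟨k, by rw [SecondMain.orderOf_conj, hk]⟩
    have hX : ∀ x ∈ X, ∃ k, orderOf x = p ^ k := by
      intro x hx
      obtain ⟨g, hg, rfl⟩ := Finset.mem_image.1 hx
      exact hpc (ConjClasses.mk_eq_mk_iff_isConj.1 (hr _).symm) (Finset.mem_filter.1 hg).2
    have hrep : ∀ g : G, (∃ k : ℕ, orderOf g = p ^ k) → ∃! x, x ∈ X ∧ IsConj g x := by
      intro g hg
      refine ⟨r (ConjClasses.mk g), ⟨Finset.mem_image.2 ⟨g, Finset.mem_filter.2 ⟨Finset.mem_univ _, hg⟩, rfl⟩,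
        ConjClasses.mk_eq_mk_iff_isConj.1 (hr _).symm⟩, ?_⟩
      rintro x ⟨hx, hgx⟩
      obtain ⟨h, -, rfl⟩ := Finset.mem_image.1 hx
      have e := ConjClasses.mk_eq_mk_iff_isConj.2 hgx
      rw [hr] at e
      rw [e]
    have hmk : ∀ {w : G}, w ≠ 1 → ConjClasses.mk w ≠ ConjClasses.mk 1 := fun hw h =>
      hw (isConj_one_left.1 (ConjClasses.mk_eq_mk_iff_isConj.1 h))
    have hmem : ∀ {w : G}, w ∈ D → r (ConjClasses.mk w) = w → w ∈ X := fun hw h =>
      Finset.mem_image.2 ⟨_, Finset.mem_filter.2 ⟨Finset.mem_univ _, hord _ hw⟩, h⟩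
    have h1X : (1 : G) ∈ X := hmem D.one_mem (by simp [r])
    have huX : u ∈ X := hmem hu (by simp only [r, if_neg (hmk hu1), if_true])
    let f : G → ℕ := fun x =>
      ∑ᶠ b ∈ SecondMain.inducedSet M (Subgroup.centralizer ({x} : Set G)) B, blockRank p b
    have hf : ∀ {x : G} {b : Set (IrrCharacter (Subgroup.centralizer ({x} : Set G)))},
        IsInducedBlock M (Subgroup.centralizer ({x} : Set G)) b B →
          1 ≤ blockRank p b ∧ blockRank p b ≤ f x := by
      intro x b hb
      refine ⟨KleinDefect.blockRank_pos hM hb.1, ?_⟩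
      simp only [f, finsum_mem_eq_finite_toFinset_sum _ (Set.toFinite _)]
      exact Finset.single_le_sum (f := fun b => blockRank p b) (fun _ _ => Nat.zero_le _)
        ((Set.Finite.mem_toFinset _).2 hb)
    have hsum : Nat.card B = ∑ x ∈ X, f x := SecondMain.card_block_eq hM hB X hX hrep
    have hf1 : f 1 = blockRank p B := KleinDefect.sum_rank_one hM hB
    rw [← Finset.add_sum_erase X f h1X, hf1] at hsum
    obtain ⟨b₀, hb₀⟩ := exists_induced hM hB hD hu
    have hu2 := hf hb₀
    constructor
    · by_contra hnc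
      have hvX : v ∈ X := hmem hv (by
        simp only [r, if_neg (hmk hv1),
          if_neg (fun h => hnc (ConjClasses.mk_eq_mk_iff_isConj.1 h).symm), if_true])
      have huv : u ≠ v := fun h => hnc (h ▸ IsConj.refl u)
      obtain ⟨b₁, hb₁⟩ := exists_induced hM hB hD hv
      have hv2 := hf hb₁
      have h2 : f u + f v ≤ ∑ x ∈ X.erase 1, f x := by
        rw [← Finset.sum_pair huv]
        refine Finset.sum_le_sum_of_subset fun x hx => ?_
        rcases Finset.mem_insert.1 hx with rfl | hx
        · exact Finset.mem_erase.2 ⟨hu1, huX⟩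
        · rw [Finset.mem_singleton.1 hx]
          exact Finset.mem_erase.2 ⟨hv1, hvX⟩
      omega
    · intro b hb
      have hb2 := hf hb
      have := Finset.single_le_sum (f := f) (fun _ _ => Nat.zero_le _)
        (Finset.mem_erase.2 ⟨hu1, huX⟩)
      omega
  exact ⟨fun v hv hv1 => (main v hv hv1).1, (main u hu hu1).2⟩

/-- The exponent is `p` when the non-identity elements are conjugate. -/
theorem pow_prime {D : Subgroup G} (hD : IsPGroup p D)
    (hconj : ∀ u ∈ D, u ≠ 1 → ∀ v ∈ D, v ≠ 1 → IsConj u v) : ∀ a ∈ D, a ^ p = 1 := by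
  intro a ha
  by_cases ha1 : a = 1
  · rw [ha1, one_pow]
  have hdvd : p ∣ Nat.card D := by
    obtain ⟨k, hk⟩ := hD.exists_card_eq
    rw [hk]
    refine dvd_pow_self p fun h0 => ha1 ?_
    rw [h0, pow_zero, Nat.card_eq_one_iff_unique] at hk
    exact congrArg Subtype.val (hk.1.elim (⟨a, ha⟩ : D) 1)
  obtain ⟨x, hx⟩ := exists_prime_orderOf_dvd_card' p hdvd
  have hx' : orderOf (x : G) = p := (Subgroup.orderOf_coe x).trans hx
  have hx1 : (x : G) ≠ 1 := fun h => (Fact.out : p.Prime).ne_one (by rw [← hx', h, orderOf_one])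
  obtain ⟨c, hc⟩ := isConj_iff.1 (hconj x x.2 hx1 a ha ha1)
  have h : orderOf a = p := by rw [← hc, SecondMain.orderOf_conj, hx']
  rw [← h]
  exact pow_orderOf_eq_one a

/-- The principal block. -/
theorem elementary_principal (hM : IsPModular p M) {D : Subgroup G}
    (hD : IsDefectGroup p M (principalBlock M G) D)
    (hk : Nat.card (principalBlock M G) ≤ blockRank p (principalBlock M G) + 1) :
    IsElementaryAbelian p D := by
  classical
  have := Fintype.ofFinite G
  have hB : IsPBlock M (principalBlock M G) := isPBlock_principal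
  have hint : IntegralPrincipal.{u} M := integralPrincipal hM
  have hDp := isPGroup_defectGroup hM hD
  obtain ⟨S, rfl⟩ := (isDefectGroup_principal_iff hM hint D).1 hD
  have hconj := fun u hu hu1 => (conj_of_defect hM hB hD hk (u := u) hu hu1).1
  have hexp := pow_prime hDp hconj
  refine ⟨IsMulCommutative.of_comm fun a b => Subtype.ext (?_ : (a : G) * b = b * a), hexp⟩
  suffices hab : ∀ x ∈ (S : Subgroup G), ∀ y ∈ (S : Subgroup G), x * y = y * x from
    hab a a.2 b b.2
  by_cases hp2 : p = 2
  · exact KleinDefect.abelian_of_mul_self fun x hx => by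
      have h := hexp x hx
      rwa [hp2, sq] at h
  by_cases hbot : (S : Subgroup G) = ⊥
  · intro x hx y hy
    rw [hbot, Subgroup.mem_bot] at hx hy
    rw [hx, hy]
  -- elements of order prime to `p` at a fixed element
  have hlocal : ∀ u ∈ (S : Subgroup G), u ≠ 1 → ∀ Q : Subgroup G, IsPGroup p Q →
      (∀ q ∈ Q, Commute u q) → ∀ g : G, Commute u g → g ∈ Subgroup.normalizer (Q : Set G) →
      Nat.Coprime (orderOf g) p → ∀ q ∈ Q, q * g = g * q := by
    intro u hu hu1 Q hQ hQu g hgu hgN hgp q hq
    have := Fintype.ofFinite (Subgroup.centralizer (Subgroup.zpowers u : Set G))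
    have hind := SecondMain.induced_of_brauerPair hM (Star.exists_order_pow hDp ⟨u, hu⟩)
      (brauerPairOf_principal hM hint (Q := Subgroup.zpowers u)
        (hDp.to_le (Subgroup.zpowers_le.2 hu)))
    have h1 : blockRank p (principalBlock M (Subgroup.centralizer (Subgroup.zpowers u : Set G))) = 1 := by
      have key : ∀ (H : Subgroup G), H = Subgroup.centralizer ({u} : Set G) →
          ∀ b : Set (IrrCharacter H), IsInducedBlock M H b (principalBlock M G) →
            blockRank p b = 1 := by
        rintro H rfl b hb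
        exact (conj_of_defect hM hB hD hk hu hu1).2 b hb
      exact key _ (centralizer_zpowers u) _ hind
    have hint' : IntegralPrincipal.{u} M := integralPrincipal hM
    have hcomp := complement_of_blockRank_principal hM hint' h1
    have hnil := isNilpotentBlock_of_complement (M := M) hcomp
      (isPBlock_principal (G := Subgroup.centralizer (Subgroup.zpowers u : Set G)))
    have hQH : Q ≤ Subgroup.centralizer (Subgroup.zpowers u : Set G) := fun x hx =>
      SecondMain.mem_centralizer_zpowers_iff.2 (hQu x hx)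
    have hgH : g ∈ Subgroup.centralizer (Subgroup.zpowers u : Set G) :=
      SecondMain.mem_centralizer_zpowers_iff.2 hgu
    have h := local_centralizes_of_nilpotent hM hint' hnil
      (Q := Q.subgroupOf (Subgroup.centralizer (Subgroup.zpowers u : Set G)))
      (hQ.comap_of_injective _ (Subgroup.subtype_injective _)) (g := ⟨g, hgH⟩)
      (Subgroup.mem_normalizer_iff.2 fun x => by
        simp only [Subgroup.mem_subgroupOf, Subgroup.coe_mul, Subgroup.coe_inv]
        exact Subgroup.mem_normalizer_iff.1 hgN x)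
      (by rw [← Subgroup.orderOf_coe]; exact hgp)
    exact congrArg Subtype.val
      (Subgroup.mem_centralizer_iff.1 h ⟨q, hQH hq⟩ (Subgroup.mem_subgroupOf.2 hq))
  -- a central element and an inverting element
  have : Nontrivial (S : Subgroup G) := (Subgroup.nontrivial_iff_ne_bot _).2 hbot
  have := IsPGroup.center_nontrivial hDp
  obtain ⟨⟨⟨z, hzS⟩, hzc⟩, hz1⟩ := exists_ne (1 : Subgroup.center (S : Subgroup G))
  have hz1' : z ≠ 1 := fun h => hz1 (Subtype.ext (Subtype.ext h))
  have hzC : z ∈ Subgroup.centralizer ((S : Subgroup G) : Set G) :=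
    Subgroup.mem_centralizer_iff.2 fun y hy =>
      congrArg Subtype.val (Subgroup.mem_center_iff.1 hzc ⟨y, hy⟩)
  have hzinv : z⁻¹ ≠ z := by
    intro h
    have h2 : z ^ 2 = 1 := by rw [sq]; conv_lhs => arg 2; rw [← h]
                              exact mul_inv_cancel z
    have hd : orderOf z ∣ 2 := orderOf_dvd_of_pow_eq_one h2
    have hzp : orderOf z = p := orderOf_eq_prime (hexp z hzS) hz1'
    rw [hzp] at hd
    exact hp2 ((Nat.prime_dvd_prime_iff_eq Fact.out Nat.prime_two).1 hd)
  obtain ⟨c, hc⟩ := isConj_iff.1 (hconj z hzS hz1' z⁻¹ (inv_mem hzS) (inv_ne_one.2 hz1'))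
  obtain ⟨n, hn, hnz⟩ := Sylow.conj_eq_normalizer_conj_of_mem_centralizer S z c⁻¹ hzC
    (by rw [inv_inv, hc]; exact inv_mem hzC)
  rw [inv_inv, hc] at hnz
  set t := n⁻¹ with ht
  have htN : t ∈ Subgroup.normalizer ((S : Subgroup G) : Set G) := inv_mem hn
  have htz : t * z * t⁻¹ = z⁻¹ := by rw [ht, inv_inv]; exact hnz.symm
  have hconjinv : t * z⁻¹ * t⁻¹ = z := by
    rw [show t * z⁻¹ * t⁻¹ = (t * z * t⁻¹)⁻¹ by group, htz, inv_inv]
  have hsq : ∀ k, t ^ (2 * k) * z * (t ^ (2 * k))⁻¹ = z := by
    intro k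
    induction k with
    | zero => simp
    | succ k ih =>
      calc t ^ (2 * (k + 1)) * z * (t ^ (2 * (k + 1)))⁻¹
          = t * (t * (t ^ (2 * k) * z * (t ^ (2 * k))⁻¹) * t⁻¹) * t⁻¹ := by
            rw [show 2 * (k + 1) = 1 + (1 + 2 * k) by ring, pow_add, pow_add, pow_one]; group
        _ = z := by rw [ih, htz, hconjinv]
  obtain ⟨a, m, hm, hord⟩ := Nat.exists_eq_two_pow_mul_odd (orderOf_pos t).ne'
  obtain ⟨k, rfl⟩ := hm
  set s := t ^ (2 * k + 1) with hs
  have hsz : s * z * s⁻¹ = z⁻¹ := by
    calc s * z * s⁻¹ = t * (t ^ (2 * k) * z * (t ^ (2 * k))⁻¹) * t⁻¹ := by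
          rw [hs, add_comm, pow_add, pow_one]; group
      _ = z⁻¹ := by rw [hsq, htz]
  have hsN : s ∈ Subgroup.normalizer ((S : Subgroup G) : Set G) := pow_mem htN _
  have hsord : Nat.Coprime (orderOf s) p := by
    have h : s ^ 2 ^ a = 1 := by rw [hs, ← pow_mul, mul_comm, ← hord, pow_orderOf_eq_one]
    refine Nat.Coprime.coprime_dvd_left (orderOf_dvd_of_pow_eq_one h) (Nat.Coprime.pow_left a ?_)
    exact (Nat.coprime_primes Nat.prime_two Fact.out).2 (Ne.symm hp2)
  -- its square centralises
  have hs2 : ∀ x ∈ (S : Subgroup G), s * (s * x * s⁻¹) * s⁻¹ = x := by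
    intro x hx
    have hcom : Commute z (s ^ 2) := by
      have h : s ^ 2 * z * (s ^ 2)⁻¹ = z := by
        calc _ = s * (s * z * s⁻¹) * s⁻¹ := by rw [sq]; group
          _ = z := by rw [hsz, show s * z⁻¹ * s⁻¹ = (s * z * s⁻¹)⁻¹ by group, hsz, inv_inv]
      show z * s ^ 2 = s ^ 2 * z
      conv_lhs => rw [← h]
      group
    have h := hlocal z hzS hz1' S hDp (fun q hq => (Subgroup.mem_centralizer_iff.1 hzC q hq).symm)
      (s ^ 2) hcom (pow_mem hsN 2) (Nat.Coprime.coprime_dvd_left (orderOf_pow_dvd 2) hsord) x hx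
    calc s * (s * x * s⁻¹) * s⁻¹ = s ^ 2 * x * (s ^ 2)⁻¹ := by rw [sq]; group
      _ = x := by rw [← h, mul_inv_cancel_right]
  -- and it fixes no non-identity element
  have hfpf : ∀ x ∈ (S : Subgroup G), s * x * s⁻¹ = x → x = 1 := by
    intro x hx hfix
    by_contra hx1
    let Q : Subgroup G := (S : Subgroup G) ⊓ Subgroup.centralizer ({x} : Set G)
    have hxs : Commute x s := by
      show x * s = s * x
      conv_lhs => rw [← hfix]
      group
    have hQN : s ∈ Subgroup.normalizer (Q : Set G) := by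
      rw [Subgroup.mem_normalizer_iff]
      intro y
      simp only [Q, Subgroup.mem_inf, Subgroup.mem_centralizer_singleton_iff]
      refine and_congr (Subgroup.mem_normalizer_iff.1 hsN y) ⟨fun h => ?_, fun h => ?_⟩
      · calc s * y * s⁻¹ * x = s * y * s⁻¹ * (s * x * s⁻¹) := by rw [hfix]
          _ = s * (y * x) * s⁻¹ := by group
          _ = s * (x * y) * s⁻¹ := by rw [h]
          _ = s * x * s⁻¹ * (s * y * s⁻¹) := by group
          _ = _ := by rw [hfix]
      · have h' : s * (y * x) * s⁻¹ = s * (x * y) * s⁻¹ := by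
          calc s * (y * x) * s⁻¹ = s * y * s⁻¹ * (s * x * s⁻¹) := by group
            _ = (s * x * s⁻¹) * (s * y * s⁻¹) := by rw [hfix, h]
            _ = _ := by group
        exact mul_left_cancel (mul_right_cancel h')
    have h := hlocal x hx hx1 Q (hDp.to_le inf_le_left)
      (fun q hq => (Subgroup.mem_centralizer_singleton_iff.1 hq.2).symm) s hxs hQN hsord z
      ⟨hzS, Subgroup.mem_centralizer_singleton_iff.2 (Subgroup.mem_centralizer_iff.1 hzC x hx).symm⟩
    refine hzinv ?_
    rw [← hsz, ← h, mul_inv_cancel_right]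
  let σ : (S : Subgroup G) →* (S : Subgroup G) :=
    { toFun := fun x => ⟨s * x * s⁻¹, (Subgroup.mem_normalizer_iff.1 hsN x).1 x.2⟩
      map_one' := Subtype.ext (by simp)
      map_mul' := fun x y => Subtype.ext (by simp [mul_assoc]) }
  have hσ : MonoidHom.FixedPointFree σ := fun x hx =>
    Subtype.ext (hfpf x x.2 (congrArg Subtype.val hx))
  intro x hx y hy
  exact congrArg Subtype.val
    (hσ.commute_all_of_involutive (fun w => Subtype.ext (hs2 w w.2)) ⟨x, hx⟩ ⟨y, hy⟩)

/-- Conjugate non-identity elements in `p`-solvable groups with a Sylow defect group. -/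
theorem elementary_of_transitive (S : Sylow p G)
    (hconj : ∀ u ∈ (S : Subgroup G), u ≠ 1 → ∀ v ∈ (S : Subgroup G), v ≠ 1 → IsConj u v)
    (hcore : Subgroup.centralizer
      ((pCore p (G ⧸ pPrimeCore p G) : Subgroup (G ⧸ pPrimeCore p G)) : Set (G ⧸ pPrimeCore p G)) ≤
        pCore p (G ⧸ pPrimeCore p G)) :
    IsElementaryAbelian p (S : Subgroup G) := by
  classical
  have hexp := pow_prime S.2 hconj
  refine ⟨IsMulCommutative.of_comm fun a b => Subtype.ext (?_ : (a : G) * b = b * a), hexp⟩
  by_cases hbot : (S : Subgroup G) = ⊥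
  · have h1 : (a : G) = 1 := by simpa [hbot] using a.2
    simp [h1]
  have : (pPrimeCore p G).Normal := Cores.pPrimeCore_normal p G
  set N := pPrimeCore p G with hN
  set L := pPrimePCore p G with hL
  have hLn : L.Normal := by
    rw [hL]; exact (Cores.pCore_normal p _).comap _
  -- the defect group lies in `L`
  have hSL : (S : Subgroup G) ≤ L := by
    obtain ⟨w, hw, hw1, hwL⟩ : ∃ w ∈ (S : Subgroup G), w ≠ 1 ∧ w ∈ L := by
      by_cases hc : Subgroup.map (QuotientGroup.mk' N) L = ⊥
      · obtain ⟨w, hw, hw1⟩ := ((S : Subgroup G).bot_or_exists_ne_one).resolve_left hbot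
        refine ⟨w, hw, hw1, Subgroup.mem_comap.2 (hcore ?_)⟩
        rw [← HallHigman.map_pPrimePCore, hc, Subgroup.mem_centralizer_iff]
        intro y hy
        rw [Subgroup.mem_bot.1 hy, one_mul, mul_one]
      · have hdvd : p ∣ Nat.card L := by
          rw [Subgroup.map_eq_bot_iff, QuotientGroup.ker_mk'] at hc
          obtain ⟨k, hk⟩ := Fong.relIndex_pPrimePCore (G := G) (p := p)
          refine dvd_trans ?_ (Subgroup.relIndex_dvd_card N L)
          rw [hk]
          exact dvd_pow_self p fun h0 => hc (Subgroup.relIndex_eq_one.1 (by rw [hk, h0, pow_zero]))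
        obtain ⟨x, hx⟩ := exists_prime_orderOf_dvd_card' p hdvd
        have hx' : orderOf (x : G) = p := (Subgroup.orderOf_coe x).trans hx
        have hxp : IsPGroup p (Subgroup.zpowers (x : G)) :=
          IsPGroup.of_card (n := 1) (by rw [Nat.card_zpowers, hx', pow_one])
        obtain ⟨T, hT⟩ := hxp.exists_le_sylow
        obtain ⟨g, hg⟩ := MulAction.exists_smul_eq G T S
        refine ⟨g * x * g⁻¹, ?_, ?_, hLn.conj_mem _ x.2 g⟩
        · rw [← hg, Sylow.coe_subgroup_smul, Subgroup.mem_pointwise_smul_iff_inv_smul_mem, ← map_inv,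
            MulAut.smul_def, MulAut.conj_apply]
          simpa [mul_assoc] using hT (Subgroup.mem_zpowers (x : G))
        · intro h
          exact (Fact.out : p.Prime).ne_one (by rw [← hx', conj_eq_one_iff.1 h, orderOf_one])
    intro v hv
    by_cases hv1 : v = 1
    · rw [hv1]; exact L.one_mem
    obtain ⟨c, rfl⟩ := isConj_iff.1 (hconj w hw hw1 v hv hv1)
    exact hLn.conj_mem w hwL c
  -- the normaliser is transitive
  have htop : Subgroup.normalizer ((S : Subgroup G) : Set G) ⊔ N = ⊤ := by
    have hfr := Sylow.normalizer_sup_eq_top (S.subtype hSL)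
    rw [Sylow.coe_subtype, Subgroup.subgroupOf_map_subtype, inf_of_le_left hSL] at hfr
    obtain ⟨k, hk⟩ := Fong.relIndex_pPrimePCore (G := G) (p := p)
    have hLS : L ≤ N ⊔ (S : Subgroup G) := Fong.le_sup_of_not_dvd
      HallHigman.pPrimeCore_le_pPrimePCore hk hSL fun h => S.not_dvd_index (h.trans
        ⟨L.index, (Subgroup.relIndex_mul_index hSL).symm⟩)
    rw [eq_top_iff, ← hfr]
    exact sup_le le_sup_left (hLS.trans (sup_le le_sup_right (Subgroup.le_normalizer.trans le_sup_left)))
  have htrans : ∀ u ∈ (S : Subgroup G), u ≠ 1 → ∀ v ∈ (S : Subgroup G), v ≠ 1 →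
      ∃ m ∈ Subgroup.normalizer ((S : Subgroup G) : Set G), m * u * m⁻¹ = v := by
    intro u hu hu1 v hv hv1
    obtain ⟨g, hg⟩ := isConj_iff.1 (hconj u hu hu1 v hv hv1)
    obtain ⟨m, hm, n, hn, rfl⟩ := Subgroup.mem_sup_of_normal_right.1 (htop ▸ Subgroup.mem_top g)
    refine ⟨m, hm, ?_⟩
    have hw : n * u * n⁻¹ ∈ (S : Subgroup G) := by
      have h : n * u * n⁻¹ = m⁻¹ * v * m := by rw [← hg]; group
      rw [h]
      simpa using (Subgroup.mem_normalizer_iff.1 (inv_mem hm) v).1 hv
    have hin : n * u * n⁻¹ * u⁻¹ ∈ N := by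
      have : N.Normal := inferInstance
      rw [show n * u * n⁻¹ * u⁻¹ = n * (u * n⁻¹ * u⁻¹) by group]
      exact mul_mem hn (this.conj_mem _ (inv_mem hn) u)
    have h1 : n * u * n⁻¹ * u⁻¹ = 1 := by
      refine orderOf_eq_one_iff.1 (Nat.eq_one_of_dvd_coprimes ?_
        (Subgroup.orderOf_dvd_natCard _ hin)
        (Subgroup.orderOf_dvd_natCard _ (mul_mem hw (inv_mem hu))))
      obtain ⟨k, hk⟩ := S.2.exists_card_eq
      rw [show Nat.card (S : Subgroup G) = p ^ k from hk]
      exact (Cores.coprime_card_pPrimeCore p).pow_right k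
    rw [mul_inv_eq_one] at h1
    calc m * u * m⁻¹ = m * (n * u * n⁻¹) * m⁻¹ := by rw [h1]
      _ = v := by rw [← hg]; group
  have : Nontrivial (S : Subgroup G) := (Subgroup.nontrivial_iff_ne_bot _).2 hbot
  have := IsPGroup.center_nontrivial S.2
  obtain ⟨⟨⟨z, hzS⟩, hzc⟩, hz1⟩ := exists_ne (1 : Subgroup.center (S : Subgroup G))
  have hz1' : z ≠ 1 := fun h => hz1 (Subtype.ext (Subtype.ext h))
  by_cases ha1 : (a : G) = 1
  · rw [ha1, one_mul, mul_one]
  obtain ⟨m, hm, hma⟩ := htrans z hzS hz1' a a.2 ha1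
  have hb' : m⁻¹ * b * m ∈ (S : Subgroup G) := by
    simpa using (Subgroup.mem_normalizer_iff.1 (inv_mem hm) b).1 b.2
  have h := congrArg Subtype.val (Subgroup.mem_center_iff.1 hzc ⟨_, hb'⟩)
  replace h : m⁻¹ * b * m * z = z * (m⁻¹ * b * m) := h
  rw [← hma]
  calc m * z * m⁻¹ * b = m * (z * (m⁻¹ * b * m)) * m⁻¹ := by group
    _ = m * (m⁻¹ * b * m * z) * m⁻¹ := by rw [h]
    _ = b * (m * z * m⁻¹) := by group

/-- Blocks of `p`-solvable groups. -/
theorem elementary_of_pSolvable (hM : IsPModular p M) : ∀ (n : ℕ) {G : Type u} [Group G] [Finite G]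
    {B : Set (IrrCharacter G)} {D : Subgroup G}, Nat.card G = n → IsPSolvable p G →
    IsPBlock M B → IsDefectGroup p M B D → Nat.card B ≤ blockRank p B + 1 →
    IsElementaryAbelian p D := by
  intro n
  induction n using Nat.strong_induction_on with
  | _ n ih =>
  intro G _ _ B D hn hps hB hD hk
  classical
  have := Fintype.ofFinite G
  have : (pPrimeCore p G).Normal := Cores.pPrimeCore_normal p G
  have := Fintype.ofFinite (pPrimeCore p G)
  obtain ⟨χ, hχ⟩ := isPBlock_nonempty hM hB
  obtain ⟨θ, hθ⟩ := BlocksNormal.exists_constituent (pPrimeCore p G) χ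
  have hpN : ¬ p ∣ Nat.card (pPrimeCore p G) := Fong.not_dvd_card_pPrimeCore
  set T := CharApp.inertia (pPrimeCore p G) (θ : pPrimeCore p G → ℂ) with hTdef
  by_cases hTtop : T = ⊤
  · -- the invariant case
    have hinv : ∀ g : G, IsConjCharOf (pPrimeCore p G) g (θ : pPrimeCore p G → ℂ)
        (θ : pPrimeCore p G → ℂ) := by
      intro g k k' hkk
      have h := (CharApp.mem_inertia_iff _).1 (show g ∈ T from hTtop ▸ Subgroup.mem_top g) k
      rw [← h]
      exact congrArg _ (Subtype.ext hkk)
    have hsep := Solvable.isPiSeparable_of_isPSolvable hps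
    have hcore := Solvable.centralizer_pCore_le (hsep.quotient (pPrimeCore p G))
      (Cores.pPrimeCore_quotient_self (G := G) p)
    obtain ⟨k, hk'⟩ := Fong.relIndex_pPrimePCore (G := G) (p := p)
    let Q : Sylow p (pPrimePCore p G) := default
    have hQS : ¬ p ∣ ((Q : Subgroup (pPrimePCore p G)).map (pPrimePCore p G).subtype).relIndex
        (pPrimePCore p G) := by
      rw [Subgroup.relIndex, Subgroup.subgroupOf,
        Subgroup.comap_map_eq_self_of_injective (Subgroup.subtype_injective _)]
      exact Q.not_dvd_index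
    have hQL : (Q : Subgroup (pPrimePCore p G)).map (pPrimePCore p G).subtype ≤ pPrimePCore p G :=
      Subgroup.map_subtype_le _
    have hCQ : Subgroup.centralizer
        (((Q : Subgroup (pPrimePCore p G)).map (pPrimePCore p G).subtype : Subgroup G) : Set G) ≤
          pPrimePCore p G := by
      intro x hx
      refine Subgroup.mem_comap.2 (hcore ?_)
      rw [← HallHigman.map_pPrimePCore, Subgroup.mem_centralizer_iff]
      rintro _ ⟨y, hy, rfl⟩
      have hy' := Fong.le_sup_of_not_dvd HallHigman.pPrimeCore_le_pPrimePCore hk' hQL hQS hy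
      obtain ⟨n, hn, q, hq, rfl⟩ := Subgroup.mem_sup_of_normal_left.1 hy'
      have hn1 : QuotientGroup.mk' (pPrimeCore p G) n = 1 := (QuotientGroup.eq_one_iff n).2 hn
      rw [map_mul, hn1, one_mul, ← map_mul, ← map_mul, Subgroup.mem_centralizer_iff.1 hx q hq]
    obtain ⟨hB₀, hsyl, -⟩ := S4642.result p M hM _ rfl _ rfl _ hQL (Q.2.map _) hQS hCQ θ hinv
      {χ : IrrCharacter G | classInner (fun k : pPrimeCore p G => (χ : G → ℂ) k)
        (θ : pPrimeCore p G → ℂ) ≠ 0} fun _ => Iff.rfl
    obtain rfl := isPBlock_eq_of_mem hM hB hB₀ hχ hθ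
    obtain ⟨S, hS⟩ := (isPGroup_defectGroup hM hD).exists_le_sylow
    obtain rfl : D = (S : Subgroup G) := Subgroup.eq_of_le_of_card_ge hS (by
      rw [card_defectGroup hM hB hD, ← card_defectGroup hM hB (hsyl S)])
    exact elementary_of_transitive S
      (fun u hu hu1 => (conj_of_defect hM hB hD hk hu hu1).1) hcore
  · -- reduction to the stabiliser
    have := Fintype.ofFinite T
    have hb := Fong.isPBlock_singleton hM hpN θ
    have hNT : pPrimeCore p G ≤ T := fun x hx => (CharApp.mem_inertia_iff _).2 fun m =>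
      Char.IsIrrCharacter.isClassFunction θ.2 m ⟨x, hx⟩
    have hT : FongReynolds.IsBlockStab (pPrimeCore p G) T {θ} := by
      intro g
      rw [CharApp.mem_inertia_iff]
      simp only [Set.mem_singleton_iff, forall_eq]
      constructor
      · intro h θ' hθ'
        exact Subtype.ext (funext fun m => (hθ' m).trans (h m))
      · intro h m
        have e := h (BlocksNormal.conjIrr (pPrimeCore p G) g⁻¹ θ) fun m' =>
          congrArg (θ : pPrimeCore p G → ℂ) (Subtype.ext (by simp [mul_assoc]))
        have e' := congrFun (congrArg Subtype.val e) m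
        refine Eq.trans ?_ e'
        exact congrArg _ (Subtype.ext (by simp [mul_assoc]))
    obtain ⟨B', hB', hcov, hind⟩ := (FongReynolds.fong_reynolds hNT hM hb hT).2.2 B hB
      ⟨χ, hχ, θ, rfl, hθ⟩
    obtain ⟨D', hD'⟩ := Blocks.exists_isDefectGroup hM hB'
    obtain ⟨B₀, hB₀, -, hirr, hmem⟩ := (FongReynolds.fong_reynolds hNT hM hb hT).1 B' hB' hcov
    obtain rfl := SecondMain.induced_unique hM hind hB₀
    have hcard : Nat.card B = Nat.card B' := by
      obtain ⟨h1, h2⟩ : (∀ ψ : B', (⟨_, hirr ψ ψ.2⟩ : IrrCharacter G) ∈ B) ∧ True :=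
        ⟨fun ψ => (hmem _).2 ⟨ψ, ψ.2, rfl⟩, trivial⟩
      symm
      refine Nat.card_eq_of_bijective (fun ψ : B' => (⟨_, h1 ψ⟩ : B)) ⟨fun ψ ψ' he => ?_, fun η => ?_⟩
      · obtain ⟨θ₁, hθ₁, hm₁⟩ := FongReynolds.over_of_covers hNT hM hb hT hB' hcov ψ.2
        obtain ⟨θ₂, hθ₂, hm₂⟩ := FongReynolds.over_of_covers hNT hM hb hT hB' hcov ψ'.2
        exact Subtype.ext (FongReynolds.eq_of_induced hNT hM hb hT hθ₁ hθ₂ hm₁ hm₂
          (congrArg (fun z : B => ((z : IrrCharacter G) : G → ℂ)) he))
      · obtain ⟨ψ, hψ, he⟩ := (hmem η).1 η.2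
        exact ⟨⟨ψ, hψ⟩, Subtype.ext (Subtype.ext he.symm)⟩
    have hrank : blockRank p B ≤ blockRank p B' := by
      let Φ : (T → ℂ) →ₗ[ℂ] (G → ℂ) :=
        { toFun := indFun T
          map_add' := Char.indFun_add T
          map_smul' := Char.indFun_smul T }
      have hpR : ∀ f : T → ℂ, Φ (pRegularPart p f) = pRegularPart p (indFun T f) := by
        intro f
        funext g
        show indFun T _ g = _
        have hext : ∀ x : G, extendByZero T (pRegularPart p f) (x⁻¹ * g * x) =
            if ¬ p ∣ orderOf g then extendByZero T f (x⁻¹ * g * x) else 0 := by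
          intro x
          by_cases hx : x⁻¹ * g * x ∈ T
          · have ho : orderOf (⟨_, hx⟩ : T) = orderOf g := by
              rw [← Subgroup.orderOf_coe]
              show orderOf (x⁻¹ * g * x) = _
              rw [show x⁻¹ * g * x = x⁻¹ * g * x⁻¹⁻¹ by rw [inv_inv], SecondMain.orderOf_conj]
            rw [Char.extendByZero_mem _ _ hx, Char.extendByZero_mem _ _ hx]
            simp only [pRegularPart, IsPRegular, ho]
          · rw [Char.extendByZero_not_mem _ _ hx, Char.extendByZero_not_mem _ _ hx, ite_self]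
        simp only [indFun, hext, pRegularPart, IsPRegular]
        by_cases hg : p ∣ orderOf g <;> simp [hg]
      refine le_trans (Submodule.finrank_mono ?_) (Submodule.finrank_map_le Φ _)
      rw [Submodule.span_le]
      rintro _ ⟨η, hη, rfl⟩
      obtain ⟨ψ, hψ, he⟩ := (hmem η).1 hη
      exact ⟨_, Submodule.subset_span ⟨ψ, hψ, rfl⟩, by rw [hpR, ← he]⟩
    have hlt : Nat.card T < n := by
      rw [← hn]
      exact lt_of_le_of_ne (Subgroup.card_le_card_group _)
        fun h => hTtop (Subgroup.eq_top_of_card_eq _ h)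
    obtain ⟨hcom, hpow⟩ := ih _ hlt rfl (PLocal.isPSolvable_subgroup hps T) hB' hD' (by omega)
    obtain ⟨x, hx⟩ := isDefectGroup_conj_eq hM hB
      (CoverDefect.fong_reynolds_defect hM hb hT hNT hB' hcov hind hD') hD
    have hel : ∀ a ∈ D, ∃ a' ∈ D', a = x * (a' : G) * x⁻¹ := by
      intro a ha
      rw [← hx, mem_conjSub] at ha
      obtain ⟨a', ha', he⟩ := ha
      exact ⟨a', ha', by rw [show ((a' : T) : G) = x⁻¹ * a * x from he]; group⟩
    refine ⟨IsMulCommutative.of_comm fun a b => Subtype.ext ?_, fun a ha => ?_⟩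
    · obtain ⟨a', ha', ea⟩ := hel a a.2
      obtain ⟨b', hb', eb⟩ := hel b b.2
      have h : (⟨a', ha'⟩ : D') * ⟨b', hb'⟩ = ⟨b', hb'⟩ * ⟨a', ha'⟩ := mul_comm' _ _
      have h' : (a' : G) * b' = b' * a' := congrArg (fun z : D' => ((z : T) : G)) h
      show (a : G) * b = b * a
      rw [ea, eb]
      calc x * (a' : G) * x⁻¹ * (x * b' * x⁻¹) = x * ((a' : G) * b') * x⁻¹ := by group
        _ = x * ((b' : G) * a') * x⁻¹ := by rw [h']
        _ = _ := by group
    · obtain ⟨a', ha', ea⟩ := hel a ha
      have h : ((a' : G)) ^ p = 1 := by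
        have := congrArg Subtype.val (hpow a' ha')
        simpa using this
      rw [ea, conj_pow, h, mul_one, mul_inv_cancel]

end Cfsg.Agent.KMinusL
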